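import Groth.Prelude.Def_LefPen
import Mathlib.RingTheory.Nullstellensatz
import Mathlib.LinearAlgebra.Matrix.ToLinearEquiv

/-!
# Singular forms of a given degree form a closed set
-/

noncomputable section

set_option autoImplicit false
set_option linter.style.haveILetI false
set_option linter.unusedSectionVars false

open MvPolynomial

namespace Groth.Agent.DiscForm

universe u v

/-- The exponents of the monomials of degree `d`. -/
abbrev Mon (n d : ℕ) : Type := {e : Fin (n + 1) →₀ ℕ // e ∈ (Finset.univ : Finset (Fin (n + 1))).finsuppAntidiag d}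

theorem degree_eq {n d : ℕ} (e : Mon n d) : (e.1).degree = d := by
  rw [Finsupp.degree_eq_sum]
  exact (Finset.mem_finsuppAntidiag.1 e.2).1

/-- The monomial exponent with given degree. -/
def mkMon {n d : ℕ} (e : Fin (n + 1) →₀ ℕ) (h : e.degree = d) : Mon n d :=
  ⟨e, Finset.mem_finsuppAntidiag.2 ⟨by rwa [Finsupp.degree_eq_sum] at h, Finset.subset_univ _⟩⟩

/-- The form with given coefficients. -/
def form {n d : ℕ} {B : Type v} [CommRing B] (c : Mon n d → B) : MvPolynomial (Fin (n + 1)) B :=
  ∑ e, monomial e.1 (c e)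

theorem form_isHomogeneous {n d : ℕ} {B : Type v} [CommRing B] (c : Mon n d → B) : (form c).IsHomogeneous d :=
  IsHomogeneous.sum _ _ _ fun e _ => isHomogeneous_monomial _ (degree_eq e)

theorem map_form {n d : ℕ} {B : Type v} [CommRing B] {B' : Type u} [CommRing B'] (f : B →+* B') (c : Mon n d → B) :
    MvPolynomial.map f (form c) = form fun e => f (c e) := by
  simp [form, map_sum, map_monomial]

theorem coeff_form {n d : ℕ} {B : Type v} [CommRing B] (c : Mon n d → B) (e : Mon n d) :
    coeff e.1 (form c) = c e := by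
  classical
  rw [form, coeff_sum, Finset.sum_eq_single e (fun b _ hb => by rw [coeff_monomial, if_neg fun h => hb (Subtype.ext h)])
    (by simp), coeff_monomial, if_pos rfl]

theorem form_coeff {n d : ℕ} {B : Type v} [CommRing B] (p : MvPolynomial (Fin (n + 1)) B) (hp : p.IsHomogeneous d) :
    form (fun e : Mon n d => coeff e.1 p) = p := by
  classical
  ext m
  by_cases hm : m.degree = d
  · exact coeff_form _ (mkMon m hm)
  · rw [hp.coeff_eq_zero hm, (form_isHomogeneous _).coeff_eq_zero hm]

variable {k : Type u} [Field k] {n d : ℕ}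

/-- A form with a singular point. -/
def IsSing (G : MvPolynomial (Fin (n + 1)) k) : Prop :=
  ∃ v : Fin (n + 1) → k, v ≠ 0 ∧ eval v G = 0 ∧ ∀ i, eval v (pderiv i G) = 0

theorem eval_homogeneousComponent_mul {v : Fin (n + 1) → k} {g : MvPolynomial (Fin (n + 1)) k} {a : ℕ}
    (hg : g.IsHomogeneous a) (hv : eval v g = 0) (p : MvPolynomial (Fin (n + 1)) k) (s : ℕ) :
    eval v (homogeneousComponent s (p * g)) = 0 := by
  conv_lhs => rw [← sum_homogeneousComponent p]
  rw [Finset.sum_mul, map_sum, map_sum]
  refine Finset.sum_eq_zero fun i _ => ?_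
  rw [homogeneousComponent_of_mem ((homogeneousComponent_isHomogeneous i p).mul hg)]
  split_ifs
  · rw [map_mul, hv, mul_zero]
  · exact map_zero _

theorem pderiv_isHomogeneous {B : Type v} [CommRing B] {p : MvPolynomial (Fin (n + 1)) B} {a : ℕ}
    (hp : p.IsHomogeneous a) (i : Fin (n + 1)) : (pderiv i p).IsHomogeneous (a - 1) := by
  classical
  rw [as_sum p, map_sum]
  refine IsHomogeneous.sum _ _ _ fun m hm => ?_
  rw [pderiv_monomial]
  have hdeg : m.degree = a := (hp.degree_eq_sum_deg_support hm).symm
  by_cases hi : m i = 0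
  · simp [hi, isHomogeneous_zero]
  · refine isHomogeneous_monomial _ ?_
    have hsplit : m - Finsupp.single i 1 + Finsupp.single i 1 = m :=
      tsub_add_cancel_of_le (Finsupp.single_le_iff.2 (Nat.one_le_iff_ne_zero.2 hi))
    have h2 := congrArg Finsupp.degree hsplit
    rw [map_add, hdeg, Finsupp.degree_single] at h2
    omega

/-- The generators of the singular ideal. -/
def gen {B : Type v} [CommRing B] (c : Mon n d → B) : Option (Fin (n + 1)) → MvPolynomial (Fin (n + 1)) B
  | none => form c
  | some i => pderiv i (form c)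

theorem gen_map {B : Type v} [CommRing B] {B' : Type u} [CommRing B'] (f : B →+* B') (c : Mon n d → B)
    (t : Option (Fin (n + 1))) : MvPolynomial.map f (gen c t) = gen (fun e => f (c e)) t := by
  cases t with
  | none => exact map_form f c
  | some i => show MvPolynomial.map f (pderiv i (form c)) = _; rw [← pderiv_map, map_form]; rfl

theorem isSing_iff_gen (c : Mon n d → k) : IsSing (form c) ↔ ∃ v ≠ 0, ∀ t, eval v (gen c t) = 0 :=
  ⟨fun ⟨v, h0, h1, h2⟩ => ⟨v, h0, fun t => match t with | none => h1 | some i => h2 i⟩,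
    fun ⟨v, h0, h⟩ => ⟨v, h0, h none, fun i => h (some i)⟩⟩

/-- The nonsingular forms form an open set. -/
theorem exists_poly_ne_zero_of_not_isSing [IsAlgClosed k] (c : Mon n d → k) (hc : ¬ IsSing (form c)) :
    ∃ f : MvPolynomial (Mon n d) k, eval c f ≠ 0 ∧ ∀ c', IsSing (form c') → eval c' f = 0 := by
  classical
  let J : Ideal (MvPolynomial (Fin (n + 1)) k) := Ideal.span (Set.range (gen c))
  have hX : ∀ i, (X i : MvPolynomial (Fin (n + 1)) k) ∈ J.radical := by
    intro i
    rw [← MvPolynomial.vanishingIdeal_zeroLocus_eq_radical (K := k), mem_vanishingIdeal_iff]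
    intro v hv
    by_cases h0 : v = 0
    · simp [h0]
    · refine absurd ((isSing_iff_gen c).2 ⟨v, h0, fun t => ?_⟩) hc
      have h1 := hv (gen c t) (Ideal.subset_span ⟨t, rfl⟩)
      simpa [aeval_eq_eval] using h1
  choose M hM using hX
  obtain ⟨K, hK⟩ : ∃ K, ∀ i, M i ≤ K := ⟨∑ i, M i, fun i => Finset.single_le_sum (fun j _ => Nat.zero_le _) (Finset.mem_univ i)⟩
  let s := (n + 1) * K + 1
  have hmem : ∀ e : Mon n s, monomial e.1 (1 : k) ∈ J := by
    intro e
    obtain ⟨i, hi⟩ : ∃ i, M i ≤ e.1 i := by
      by_contra hcon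
      push Not at hcon
      have h1 : ∑ i, e.1 i ≤ ∑ _i : Fin (n + 1), K :=
        Finset.sum_le_sum fun i _ => (hcon i).le.trans (hK i)
      rw [← Finsupp.degree_eq_sum, degree_eq, Finset.sum_const, Finset.card_univ, Fintype.card_fin, smul_eq_mul] at h1
      omega
    have hdvd : X i ^ M i ∣ monomial e.1 (1 : k) := by
      rw [X_pow_eq_monomial]
      exact monomial_dvd_monomial.2 ⟨Or.inr (Finsupp.single_le_iff.2 hi), one_dvd _⟩
    exact J.mem_of_dvd hdvd (hM i)
  have hrep : ∀ e : Mon n s, ∃ a : Option (Fin (n + 1)) → MvPolynomial (Fin (n + 1)) k,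
      ∑ t, a t * gen c t = monomial e.1 (1 : k) := fun e => by
    obtain ⟨a, ha⟩ := Ideal.mem_span_range_iff_exists_fun.1 (hmem e)
    exact ⟨a, ha⟩
  choose a ha using hrep
  let Mu : Matrix (Mon n s) (Mon n s) (MvPolynomial (Mon n d) k) := fun e e' =>
    coeff e'.1 (∑ t, MvPolynomial.map C (a e t) * gen (fun m : Mon n d => (X m : MvPolynomial (Mon n d) k)) t)
  have hMu : ∀ c' : Mon n d → k, ∀ e e' : Mon n s, eval c' (Mu e e') = coeff e'.1 (∑ t, a e t * gen c' t) := by
    intro c' e e'
    show eval c' (coeff e'.1 _) = _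
    rw [← MvPolynomial.coeff_map, map_sum]
    refine congrArg _ (Finset.sum_congr rfl fun t _ => ?_)
    rw [map_mul, gen_map, MvPolynomial.map_map]
    congr 1
    · rw [show (eval c').comp C = RingHom.id k from RingHom.ext fun x => eval_C x, MvPolynomial.map_id]
    · exact congrArg (fun c'' => gen c'' t) (funext fun m => eval_X m)
  refine ⟨Mu.det, ?_, fun c' hc' => ?_⟩
  · rw [RingHom.map_det]
    have h1 : (eval c).mapMatrix Mu = 1 := Matrix.ext fun e e' => by
      rw [RingHom.mapMatrix_apply, Matrix.map_apply, hMu, ha, coeff_monomial, Matrix.one_apply]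
      by_cases he : e = e'
      · rw [if_pos he, if_pos (congrArg Subtype.val he)]
      · rw [if_neg he, if_neg fun h => he (Subtype.ext h)]
    rw [h1, Matrix.det_one]
    exact one_ne_zero
  · obtain ⟨v, hv0, hv⟩ := (isSing_iff_gen c').1 hc'
    rw [RingHom.map_det]
    refine Matrix.exists_mulVec_eq_zero_iff.1 ⟨fun e => eval v (monomial e.1 (1 : k)), fun h => ?_, funext fun e => ?_⟩
    · obtain ⟨i, hi⟩ := Function.ne_iff.1 hv0
      have h1 := congrFun h (mkMon (Finsupp.single i s) (Finsupp.degree_single _ _))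
      simp [mkMon, eval_monomial] at h1
      exact hi h1
    · show ∑ e', (eval c').mapMatrix Mu e e' * eval v (monomial e'.1 (1 : k)) = 0
      have hcomp : homogeneousComponent s (∑ t, a e t * gen c' t)
          = form fun e' : Mon n s => coeff e'.1 (∑ t, a e t * gen c' t) := by
        rw [← form_coeff (d := s) _ (homogeneousComponent_isHomogeneous s (∑ t, a e t * gen c' t))]
        congr 1
        funext e'
        rw [coeff_homogeneousComponent, if_pos (degree_eq e')]
      have h0 : eval v (homogeneousComponent s (∑ t, a e t * gen c' t)) = 0 := by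
        rw [map_sum, map_sum]
        refine Finset.sum_eq_zero fun t _ => ?_
        cases t with
        | none => exact eval_homogeneousComponent_mul (form_isHomogeneous c') (hv none) _ s
        | some i => exact eval_homogeneousComponent_mul (pderiv_isHomogeneous (form_isHomogeneous c') i) (hv (some i)) _ s
      rw [hcomp, form, map_sum] at h0
      rw [← h0]
      refine Finset.sum_congr rfl fun e' _ => ?_
      rw [RingHom.mapMatrix_apply, Matrix.map_apply, hMu]
      rw [eval_monomial, eval_monomial, one_mul]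

end Groth.Agent.DiscForm
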