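import Groth.Agent.DiscForm.Basic

/-!
# Nonsingular forms exist in every characteristic and degree
-/

noncomputable section

set_option autoImplicit false
set_option linter.style.haveILetI false
set_option linter.unusedSectionVars false

open MvPolynomial

namespace Groth.Agent.DiscForm

universe u

variable {k : Type u} [Field k]

theorem exists_nonsing (m d : ℕ) (hd : 2 ≤ d) :
    ∃ h : MvPolynomial (Fin (m + 1)) k, h.IsHomogeneous d ∧ ¬ IsSing h := by
  classical
  by_cases hdk : (d : k) = 0
  · refine ⟨X 0 ^ d + ∑ i : Fin m, X i.castSucc * X i.succ ^ (d - 1), ?_, ?_⟩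
    · refine (isHomogeneous_X_pow 0 d).add (IsHomogeneous.sum _ _ _ fun i _ => ?_)
      have h1 := (isHomogeneous_X (R := k) i.castSucc).mul (isHomogeneous_X_pow (R := k) i.succ (d - 1))
      rwa [Nat.add_sub_cancel' (le_trans one_le_two hd)] at h1
    · rintro ⟨v, hv0, hv, hdv⟩
      have heq : ∀ i : Fin m, v i.succ ^ (d - 1)
          + ∑ i' : Fin m, (if i'.succ = i.castSucc then
              v i'.castSucc * (((d - 1 : ℕ) : k) * v i'.succ ^ (d - 1 - 1)) else 0) = 0 := by
        intro i
        have h1 := hdv i.castSucc
        rw [map_add, pderiv_pow, map_sum, map_add, map_sum] at h1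
        have hd0 : eval v ((d : MvPolynomial (Fin (m + 1)) k) * X 0 ^ (d - 1) * pderiv i.castSucc (X 0)) = 0 := by
          rw [map_mul, map_mul, map_natCast, hdk, zero_mul, zero_mul]
        rw [hd0, zero_add] at h1
        have hterm : ∀ i' : Fin m, eval v (pderiv i.castSucc (X i'.castSucc * X i'.succ ^ (d - 1)))
            = (if i' = i then v i'.succ ^ (d - 1) else 0)
              + (if i'.succ = i.castSucc then v i'.castSucc * (((d - 1 : ℕ) : k) * v i'.succ ^ (d - 1 - 1)) else 0) := by
          intro i'
          rw [pderiv_mul, pderiv_pow, pderiv_X, pderiv_X, Pi.single_apply, Pi.single_apply]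
          simp only [Fin.castSucc_inj, eq_comm (a := i.castSucc), eq_comm (a := i)]
          split_ifs <;> simp
        simp only [hterm, Finset.sum_add_distrib, Finset.sum_ite_eq', Finset.mem_univ, if_true] at h1
        exact h1
      have hd1 : d - 1 ≠ 0 := by omega
      have step : ∀ i : Fin m, (∀ i' : Fin m, i'.succ = i.castSucc → v i'.castSucc = 0) → v i.succ = 0 := by
        intro i hi
        have h1 := heq i
        rw [Finset.sum_eq_zero fun i' _ => by
          split_ifs with h
          · rw [hi i' h, zero_mul]
          · rfl, add_zero] at h1
        exact eq_zero_of_pow_eq_zero h1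
      have hprod : ∀ a : ℕ, ∀ i : Fin m, (i : ℕ) = a → v i.castSucc * v i.succ = 0 := by
        intro a
        induction a with
        | zero =>
          intro i hi
          rw [step i fun i' h' => by
            have := congrArg Fin.val h'
            simp at this
            omega, mul_zero]
        | succ a ih =>
          intro i hi
          by_cases h0 : v i.castSucc = 0
          · rw [h0, zero_mul]
          · rw [step i fun i' h' => by
              have h2 := ih i' (by have := congrArg Fin.val h'; simp at this; omega)
              rw [h'] at h2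
              exact (mul_eq_zero.1 h2).resolve_right h0, mul_zero]
      have h00 : v 0 = 0 := by
        have h1 := hv
        rw [map_add, map_pow, eval_X, map_sum, Finset.sum_eq_zero fun i _ => by
          rw [map_mul, map_pow, eval_X, eval_X]
          rcases mul_eq_zero.1 (hprod _ i rfl) with h | h
          · rw [h, zero_mul]
          · rw [h, zero_pow hd1, mul_zero], add_zero] at h1
        exact eq_zero_of_pow_eq_zero h1
      have hall : ∀ a : ℕ, ∀ j : Fin (m + 1), (j : ℕ) = a → v j = 0 := by
        intro a
        induction a using Nat.strong_induction_on with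
        | _ a ih =>
          intro j hj
          by_cases hj0 : j = 0
          · rw [hj0, h00]
          · obtain ⟨i, rfl⟩ := Fin.exists_succ_eq.2 hj0
            refine step i fun i' h' => ih i'.val ?_ _ (by simp)
            have := congrArg Fin.val h'
            simp at this hj
            omega
      exact hv0 (funext fun j => hall _ j rfl)
  · refine ⟨∑ i, X i ^ d, IsHomogeneous.sum _ _ _ fun i _ => isHomogeneous_X_pow i d, ?_⟩
    rintro ⟨v, hv0, -, hdv⟩
    refine hv0 (funext fun j => ?_)
    have h1 := hdv j
    rw [map_sum, map_sum, Finset.sum_eq_single j (fun i _ hi => by rw [pderiv_pow, pderiv_X_of_ne hi, mul_zero, map_zero])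
      (by simp), pderiv_pow, pderiv_X_self, mul_one, map_mul, map_natCast, map_pow, eval_X] at h1
    exact eq_zero_of_pow_eq_zero ((mul_eq_zero.1 h1).resolve_left hdk)

end Groth.Agent.DiscForm
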