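import Groth.Agent.DiscForm.Param
import Groth.Agent.DiscForm.Nonsing
import Mathlib.RingTheory.KrullDimension.Polynomial
import Mathlib.RingTheory.KrullDimension.Field
import Mathlib.RingTheory.KrullDimension.NonZeroDivisors
import Mathlib.Algebra.MvPolynomial.Funext
import Mathlib.RingTheory.Polynomial.UniqueFactorization
import Mathlib.RingTheory.UniqueFactorizationDomain.Ideal

/-!
# The discriminant: the singular forms are the zero set of an irreducible polynomial
-/

noncomputable section

set_option autoImplicit false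
set_option linter.style.haveILetI false
set_option linter.unusedSectionVars false
set_option maxHeartbeats 1000000

open MvPolynomial

namespace Groth.Agent.DiscForm

universe u

variable {k : Type u} [Field k] [IsAlgClosed k] {n d : ℕ}

theorem le_height_origin (σ : Type*) [Fintype σ] :
    (Nat.card σ : ℕ∞) ≤ (RingHom.ker (eval (fun _ : σ => (0 : k)))).height := by
  have hsur : ∀ x : σ → k, Function.Surjective (eval x) := fun x a => ⟨C a, eval_C a⟩
  have h : ringKrullDim (MvPolynomial σ k) ≤ ((RingHom.ker (eval (fun _ : σ => (0 : k)))).height : WithBot ℕ∞) := by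
    refine (ringKrullDim_le_iff_isMaximal_height_le _).2 fun M hM => ?_
    obtain ⟨x, rfl⟩ := (MvPolynomial.isMaximal_iff_eq_vanishingIdeal_singleton (K := k)).1 hM
    let e : MvPolynomial σ k ≃+* MvPolynomial σ k :=
      (AlgEquiv.ofAlgHom (aeval fun i => X i + C (x i)) (aeval fun i => X i - C (x i))
        (MvPolynomial.algHom_ext fun i => by simp) (MvPolynomial.algHom_ext fun i => by simp)).toRingEquiv
    have hh : (RingHom.ker (eval (fun _ : σ => (0 : k)))).comap e.toRingHom =
        vanishingIdeal k ({x} : Set (σ → k)) := by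
      ext p
      rw [Ideal.mem_comap, RingHom.mem_ker, mem_vanishingIdeal_singleton_iff, aeval_eq_eval]
      have : (eval (fun _ : σ => (0 : k))).comp e.toRingHom = eval x := by
        refine MvPolynomial.ringHom_ext (fun a => ?_) fun i => ?_
        · simp [e]
        · simp [e]
      rw [← this]
      rfl
    rw [← hh]
    exact (WithBot.coe_le_coe.2 (le_of_eq (RingEquiv.height_comap e _)))
  rw [MvPolynomial.ringKrullDim_of_isNoetherianRing, ringKrullDim_eq_zero_of_field, zero_add] at h
  exact WithBot.coe_le_coe.1 h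

theorem height_add_le {R : Type u} [CommRing R] (P : Ideal R) [P.IsPrime] :
    ((P.height : ℕ∞) : WithBot ℕ∞) + ringKrullDim (R ⧸ P) ≤ ringKrullDim R := by
  haveI : Nonempty (PrimeSpectrum R) := ⟨⟨P, inferInstance⟩⟩
  have hz : PrimeSpectrum.zeroLocus (P : Set R) = Set.Ici (⟨P, inferInstance⟩ : PrimeSpectrum R) := rfl
  rw [ringKrullDim_quotient P, hz, ← Order.coheight_eq_krullDim_Ici, ← WithBot.coe_add,
    show P.height = Order.height (⟨P, inferInstance⟩ : PrimeSpectrum R) from
      (⟨P, inferInstance⟩ : PrimeSpectrum R).height_eq_orderHeight, ringKrullDim,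
    Order.krullDim_eq_iSup_height_add_coheight_of_nonempty]
  exact WithBot.coe_le_coe.2 (le_iSup (fun a : PrimeSpectrum R => Order.height a + Order.coheight a) _)

theorem card_Lm_add : Fintype.card (Mon n d) ≤ Nat.card (Fin n ⊕ Lm n d) + 1 := by
  classical
  rw [Nat.card_eq_fintype_card, Fintype.card_sum, Fintype.card_fin]
  rw [← Fintype.card_congr (Equiv.sumCompl fun e : Mon n d => e.1 0 + 2 ≤ d), Fintype.card_sum]
  have hsmall : ∀ e : {e : Mon n d // ¬ (e.1 0 + 2 ≤ d)}, ∑ i : Fin n, e.1.1 i.succ ≤ 1 := fun e => by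
    have h := degree_eq e.1
    rw [Finsupp.degree_eq_sum, Fin.sum_univ_succ] at h
    have := e.2
    omega
  let f : {e : Mon n d // ¬ (e.1 0 + 2 ≤ d)} → Option (Fin n) := fun e =>
    if h : ∃ i : Fin n, e.1.1 i.succ ≠ 0 then some h.choose else none
  have hf : Function.Injective f := by
    intro a b hab
    have key : ∀ e : {e : Mon n d // ¬ (e.1 0 + 2 ≤ d)}, ∀ i : Fin n,
        e.1.1 i.succ = if f e = some i then 1 else 0 := by
      intro e i
      by_cases h : ∃ i : Fin n, e.1.1 i.succ ≠ 0
      · have hc := h.choose_spec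
        have hs := hsmall e
        rw [← Finset.add_sum_erase _ _ (Finset.mem_univ h.choose)] at hs
        simp only [f, dif_pos h, Option.some.injEq]
        split_ifs with h'
        · subst h'; omega
        · have h3 : e.1.1 i.succ ≤ ∑ x ∈ Finset.univ.erase h.choose, e.1.1 x.succ := Finset.single_le_sum
            (f := fun i : Fin n => e.1.1 i.succ) (fun _ _ => Nat.zero_le _) (by simp [Ne.symm h'])
          omega
      · simp only [f, dif_neg h]
        push Not at h
        simpa using h i
    apply Subtype.ext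
    apply Subtype.ext
    have hs : ∀ i : Fin n, a.1.1 i.succ = b.1.1 i.succ := fun i => by rw [key, key, hab]
    refine Finsupp.ext (Fin.cases ?_ hs)
    have h1 := degree_eq a.1
    have h2 := degree_eq b.1
    rw [Finsupp.degree_eq_sum, Fin.sum_univ_succ] at h1 h2
    rw [Finset.sum_congr rfl fun i _ => hs i] at h1
    omega
  have := Fintype.card_le_of_injective f hf
  rw [Fintype.card_option, Fintype.card_fin] at this
  have hL : Fintype.card (Lm n d) = Fintype.card {e : Mon n d // e.1 0 + 2 ≤ d} := Fintype.card_congr (Equiv.refl _)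
  omega

/-- The comorphism of the parametrisation. -/
def phi : MvPolynomial (Mon n d) k →ₐ[k]
    MvPolynomial ((Fin (n + 1) × Fin (n + 1)) ⊕ Lm n d) k :=
  aeval (par (fun i j => X (Sum.inl (i, j))) fun l => X (Sum.inr l))

theorem eval_phi (b : (Fin (n + 1) × Fin (n + 1)) ⊕ Lm n d → k) (f : MvPolynomial (Mon n d) k) :
    eval b (phi f) = eval (par (fun i j => b (Sum.inl (i, j))) fun l => b (Sum.inr l)) f := by
  have h : (eval b).comp (phi (k := k) (n := n) (d := d)).toRingHom
      = eval (par (fun i j => b (Sum.inl (i, j))) fun l => b (Sum.inr l)) := by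
    refine MvPolynomial.ringHom_ext (fun a => ?_) fun e => ?_
    · simp [phi]
    · simp only [RingHom.comp_apply, AlgHom.toRingHom_eq_coe, RingHom.coe_coe, phi, aeval_X, eval_X, map_par]
      congr 1
      funext i j
      simp
  exact RingHom.congr_fun h f

theorem phi_eq_zero_iff (hd : 2 ≤ d) (f : MvPolynomial (Mon n d) k) :
    phi f = 0 ↔ ∀ c, IsSing (form c) → eval c f = 0 := by
  refine ⟨fun h c hc => ?_, fun h => ?_⟩
  · obtain ⟨A, g, rfl⟩ := exists_par_of_isSing c hc
    have := eval_phi (Sum.elim (fun p => A p.1 p.2) g) f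
    rw [h, map_zero] at this
    exact this.symm
  · refine MvPolynomial.funext fun b => ?_
    rw [eval_phi, map_zero]
    exact h _ (isSing_par hd _ _)

theorem exists_discriminant (hn : 1 ≤ n) (hd : 2 ≤ d) :
    ∃ Δ : MvPolynomial (Mon n d) k, Irreducible Δ ∧ ∀ c, IsSing (form c) ↔ eval c Δ = 0 := by
  classical
  let P : Ideal (MvPolynomial (Mon n d) k) := RingHom.ker (phi (k := k) (n := n) (d := d))
  have hP : P.IsPrime := RingHom.ker_isPrime _
  have hmemP : ∀ f, f ∈ P ↔ ∀ c, IsSing (form c) → eval c f = 0 := fun f =>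
    RingHom.mem_ker.trans (phi_eq_zero_iff hd f)
  obtain ⟨h₁, hh₁, hns⟩ := exists_nonsing (k := k) n d hd
  have hP0 : P ≠ ⊥ := by
    obtain ⟨f, hf, hf'⟩ := exists_poly_ne_zero_of_not_isSing (fun e : Mon n d => coeff e.1 h₁)
      (by rwa [form_coeff h₁ hh₁])
    refine fun hb => hf ?_
    have hfP : f ∈ P := (hmemP f).2 hf'
    rw [hb, Ideal.mem_bot] at hfP
    rw [hfP, map_zero]
  obtain ⟨q, hq, hqprime⟩ := hP.exists_mem_prime_of_ne_bot hP0
  -- the form with a single singular point in the chart
  obtain ⟨m, rfl⟩ := Nat.exists_eq_succ_of_ne_zero (by omega : n ≠ 0)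
  obtain ⟨h, hh, hhns⟩ := exists_nonsing (k := k) m d hd
  let G := rename Fin.succ h
  have hG : G.IsHomogeneous d := hh.rename_isHomogeneous
  have hGd : ∀ i : Fin (m + 1), pderiv i.succ G = rename Fin.succ (pderiv i h) := fun i =>
    pderiv_rename (Fin.succ_injective _) i h
  have hu : ∀ u : Fin (m + 1 + 1) → k, eval u G = 0 → (∀ i, eval u (pderiv i G) = 0) → ∀ i : Fin (m + 1), u i.succ = 0 := by
    intro u h0 h1 i
    by_contra hne
    refine hhns ⟨fun i => u i.succ, fun hz => hne (congrFun hz i), ?_, fun j => ?_⟩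
    · rwa [eval_rename] at h0
    · have := h1 j.succ
      rwa [hGd, eval_rename] at this
  have hG0 : eval (e0 (m + 1) k) G = 0 := by
    rw [eval_rename]
    have : (e0 (m + 1) k) ∘ Fin.succ = 0 := funext fun i => by simp [e0, Fin.succ_ne_zero]
    rw [this, eval_zero]
    exact hh.coeff_eq_zero (by simp; omega)
  have hG1 : ∀ i, eval (e0 (m + 1) k) (pderiv i G) = 0 := by
    intro i
    refine Fin.cases ?_ (fun j => ?_) i
    · rw [pderiv_eq_zero_of_notMem_vars, map_zero]
      intro hv
      obtain ⟨j, -, hj⟩ := Finset.mem_image.1 (vars_rename Fin.succ h hv)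
      exact Fin.succ_ne_zero j hj
    · rw [hGd, eval_rename]
      have : (e0 (m + 1) k) ∘ Fin.succ = 0 := funext fun i => by simp [e0, Fin.succ_ne_zero]
      rw [this, eval_zero]
      exact (pderiv_isHomogeneous hh j).coeff_eq_zero (by simp; omega)
  let g₀ : Lm (m + 1) d → k := fun l => coeff l.1.1 G
  -- restriction of the parametrisation to an affine space of dimension one less
  let σ := Fin (m + 1) ⊕ Lm (m + 1) d
  let Amat : ∀ {B : Type u} [CommRing B], (Fin (m + 1) → B) → Matrix (Fin (m + 1 + 1)) (Fin (m + 1 + 1)) B :=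
    fun {B} _ t i j => if i = j then 1 else if j = 0 then Fin.cases 0 (fun a => - t a) i else 0
  let π : MvPolynomial ((Fin (m + 1 + 1) × Fin (m + 1 + 1)) ⊕ Lm (m + 1) d) k →ₐ[k] MvPolynomial σ k :=
    aeval (Sum.elim (fun p => Amat (fun a => (X (Sum.inl a) : MvPolynomial σ k)) p.1 p.2)
      (fun l => C (g₀ l) + X (Sum.inr l)))
  let ψ : (MvPolynomial (Mon (m + 1) d) k ⧸ P) →ₐ[k] MvPolynomial σ k :=
    Ideal.Quotient.liftₐ P (π.comp phi) fun a ha => by
      rw [AlgHom.comp_apply, RingHom.mem_ker.1 ha, map_zero]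
  letI := ψ.toRingHom.toAlgebra
  let M : Ideal (MvPolynomial σ k) := RingHom.ker (eval (fun _ : σ => (0 : k)))
  haveI hM : M.IsMaximal := RingHom.ker_isMaximal_of_surjective _ fun a => ⟨C a, eval_C a⟩
  let p : Ideal (MvPolynomial (Mon (m + 1) d) k ⧸ P) := M.comap ψ.toRingHom
  haveI : p.IsPrime := Ideal.comap_isPrime _ _
  haveI : M.LiesOver p := ⟨rfl⟩
  have hev : ∀ (x : σ → k) (f : MvPolynomial (Mon (m + 1) d) k), eval x (ψ (Ideal.Quotient.mk P f))
      = eval (par (Amat fun a => x (Sum.inl a)) fun l => g₀ l + x (Sum.inr l)) f := by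
    intro x f
    show eval x (π (phi f)) = _
    have h : (eval x).comp π.toRingHom = eval (Sum.elim (fun p => Amat (fun a => x (Sum.inl a)) p.1 p.2)
        (fun l => g₀ l + x (Sum.inr l))) := by
      refine MvPolynomial.ringHom_ext (fun a => ?_) fun s => ?_
      · simp [π]
      · rcases s with ⟨i, j⟩ | l
        · simp only [π, RingHom.comp_apply, AlgHom.toRingHom_eq_coe, RingHom.coe_coe, aeval_X, Sum.elim_inl, eval_X]
          simp only [Amat]
          split_ifs
          · exact map_one _
          · refine Fin.cases ?_ (fun a => ?_) i <;> simp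
          · exact map_zero _
        · simp [π]
    refine (RingHom.congr_fun h (phi f)).trans ?_
    rw [eval_phi]
    rfl
  have hA0 : ∀ {t : Fin (m + 1) → k}, t = 0 → Amat t = 1 := by
    intro t ht
    subst ht
    ext i j
    simp only [Amat, Matrix.one_apply]
    split_ifs
    · rfl
    · refine Fin.cases ?_ (fun a => ?_) i <;> simp
    · rfl
  have hpar1 : ∀ g : Lm (m + 1) d → k, par (1 : Matrix (Fin (m + 1 + 1)) (Fin (m + 1 + 1)) k) g = ext0 g := by
    intro g
    funext e
    rw [par, show (lin (1 : Matrix (Fin (m + 1 + 1)) (Fin (m + 1 + 1)) k)) = X from funext lin_one, bind₁_X_left,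
      AlgHom.id_apply, coeff_form]
  have hzero : ∀ x : σ → k, x ∈ zeroLocus k (p.map ψ.toRingHom) → x = fun _ => 0 := by
    intro x hx
    have hc : ∀ f, eval (par (Amat fun a => x (Sum.inl a)) fun l => g₀ l + x (Sum.inr l)) f =
        eval (par (Amat fun _ : Fin (m + 1) => (0 : k)) fun l => g₀ l + 0) f := by
      intro f
      have hmem : Ideal.Quotient.mk P (f - C (eval (par (Amat fun _ : Fin (m + 1) => (0 : k)) fun l => g₀ l + 0) f)) ∈ p := by
        rw [Ideal.mem_comap, RingHom.mem_ker]
        exact (hev _ _).trans (by simp)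
      have h := hx _ (Ideal.mem_map_of_mem ψ.toRingHom hmem)
      rw [aeval_eq_eval] at h
      have h' := (hev x _).symm.trans h
      simp only [map_sub, eval_C, sub_eq_zero] at h'
      exact h'
    have hpt : par (Amat fun a => x (Sum.inl a)) (fun l => g₀ l + x (Sum.inr l)) = ext0 g₀ := by
      funext e
      have := hc (X e)
      simp only [eval_X] at this
      rw [this, hA0 (t := fun _ : Fin (m + 1) => (0 : k)) rfl, hpar1]
      simp
    set t : Fin (m + 1) → k := fun a => x (Sum.inl a)
    set g : Lm (m + 1) d → k := fun l => g₀ l + x (Sum.inr l)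
    have hform : bind₁ (lin (Amat t)) (form (ext0 g)) = G := by
      rw [← form_par, hpt, form_mem_ext0 hG hG0 hG1]
    let u : Fin (m + 1 + 1) → k := Fin.cases 1 t
    have hAu : (Amat t).mulVec u = e0 (m + 1) k := by
      funext i
      simp only [Matrix.mulVec, dotProduct, Amat]
      rw [Fin.sum_univ_succ]
      refine Fin.cases ?_ (fun a => ?_) i
      · simp [u, e0, (Fin.succ_ne_zero _).symm]
      · simp [u, e0, Fin.succ_ne_zero]
    have hu0 : eval u G = 0 := by
      rw [← hform, eval_bind₁]
      simp only [eval_lin]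
      rw [hAu]
      exact (isSing_e0 g).1
    have hu1 : ∀ i, eval u (pderiv i G) = 0 := fun i => by
      rw [← hform, pderiv_bind₁_lin, map_sum]
      refine Finset.sum_eq_zero fun j _ => ?_
      rw [map_mul, eval_bind₁]
      simp only [eval_lin]
      rw [hAu, (isSing_e0 g).2 j, mul_zero]
    have ht : t = 0 := funext fun a => by simpa [u] using hu u hu0 hu1 a
    rw [hA0 ht, hpar1] at hpt
    funext s
    rcases s with a | l
    · exact congrFun ht a
    · have := congrFun hpt l.1
      simp only [ext0, l.2, dif_pos, g] at this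
      exact add_eq_left.1 this
  have hMmin : M ≤ (p.map ψ.toRingHom).radical := by
    intro f hf
    rw [← MvPolynomial.vanishingIdeal_zeroLocus_eq_radical (K := k), mem_vanishingIdeal_iff]
    intro x hx
    rw [hzero x hx, aeval_eq_eval]
    exact hf
  have hh0 : (M.map (Ideal.Quotient.mk (p.map ψ.toRingHom))).height = 0 := by
    have hle : p.map ψ.toRingHom ≤ M := Ideal.map_comap_le
    haveI : (M.map (Ideal.Quotient.mk (p.map ψ.toRingHom))).IsPrime :=
      Ideal.map_isPrime_of_surjective Ideal.Quotient.mk_surjective (by rwa [Ideal.mk_ker])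
    rw [Ideal.height_eq_zero_iff]
    refine ⟨⟨inferInstance, bot_le⟩, fun Q hQ hQle => ?_⟩
    rw [Ideal.map_le_iff_le_comap]
    refine hMmin.trans ?_
    haveI := hQ.1
    rw [← (Ideal.comap_isPrime (Ideal.Quotient.mk (p.map ψ.toRingHom)) Q).radical]
    refine Ideal.radical_mono fun y hy => ?_
    rw [Ideal.mem_comap, Ideal.Quotient.eq_zero_iff_mem.2 hy]
    exact Q.zero_mem
  have hMp : (Nat.card σ : ℕ∞) ≤ p.height :=
    calc (Nat.card σ : ℕ∞) ≤ M.height := le_height_origin σ
      _ ≤ p.height + (M.map (Ideal.Quotient.mk (p.map (algebraMap _ _)))).height :=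
        Ideal.height_le_height_add_of_liesOver p M
      _ = p.height := by rw [show (algebraMap _ (MvPolynomial σ k)) = ψ.toRingHom from rfl, hh0, add_zero]
  have hht : P.height ≤ 1 := by
    haveI := hP
    have h2 : ((P.height : ℕ∞) : WithBot ℕ∞) + ((p.height : ℕ∞) : WithBot ℕ∞) ≤ (Nat.card (Mon (m + 1) d) : WithBot ℕ∞) := by
      refine le_trans (add_le_add le_rfl (Ideal.height_le_ringKrullDim_of_ne_top Ideal.IsPrime.ne_top')) ?_
      refine (height_add_le P).trans ?_
      rw [MvPolynomial.ringKrullDim_of_isNoetherianRing, ringKrullDim_eq_zero_of_field, zero_add]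
    rw [← WithBot.coe_add] at h2
    have h3 : P.height + p.height ≤ (Nat.card (Mon (m + 1) d) : ℕ∞) := WithBot.coe_le_coe.1 h2
    have h4 : (Nat.card (Mon (m + 1) d) : ℕ∞) ≤ 1 + (Nat.card σ : ℕ∞) := by
      rw [Nat.card_eq_fintype_card]
      have := card_Lm_add (n := m + 1) (d := d)
      calc ((Fintype.card (Mon (m + 1) d) : ℕ) : ℕ∞) ≤ ((Nat.card σ + 1 : ℕ) : ℕ∞) := Nat.cast_le.2 this
        _ = 1 + (Nat.card σ : ℕ∞) := by rw [Nat.cast_add, Nat.cast_one, add_comm]
    have h5 := ((add_le_add le_rfl hMp).trans h3).trans h4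
    exact (ENat.add_le_add_iff_right (ENat.coe_ne_top _)).1 h5
  have hq0 : (Ideal.span {q}).IsPrime := (Ideal.span_singleton_prime hqprime.ne_zero).2 hqprime
  have hPeq : Ideal.span {q} = P := by
    refine le_antisymm (by rwa [Ideal.span_le, Set.singleton_subset_iff]) ?_
    by_contra hnle
    haveI := hP
    haveI := hq0
    have hlt : Ideal.span {q} < P := lt_of_le_not_ge (by rwa [Ideal.span_le, Set.singleton_subset_iff]) hnle
    have h2 : (Ideal.span {q}).height = 0 := by
      have h1 := (Ideal.height_add_one_le_of_lt_of_isPrime hlt).trans hht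
      exact nonpos_iff_eq_zero.1 ((ENat.add_le_add_iff_right (ENat.coe_ne_top 1)).1 (by simpa using h1))
    rw [Ideal.height_eq_zero_iff_eq_bot, Ideal.span_singleton_eq_bot] at h2
    exact hqprime.ne_zero h2
  refine ⟨q, hqprime.irreducible, fun c => ⟨fun hc => (hmemP q).1 hq c hc, fun hc => ?_⟩⟩
  by_contra hns'
  obtain ⟨f, hf, hf'⟩ := exists_poly_ne_zero_of_not_isSing c hns'
  have hfP : f ∈ P := (hmemP f).2 hf'
  rw [← hPeq, Ideal.mem_span_singleton] at hfP
  obtain ⟨a, rfl⟩ := hfP
  exact hf (by rw [map_mul, hc, zero_mul])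

end Groth.Agent.DiscForm
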