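import Groth.Agent.DiscForm.Basic

/-!
# The singular forms are parametrised by linear substitutions of forms singular at a fixed point
-/

noncomputable section

set_option autoImplicit false
set_option linter.style.haveILetI false
set_option linter.unusedSectionVars false

open MvPolynomial

namespace Groth.Agent.DiscForm

universe u v

variable {n d : ℕ} {B : Type v} [CommRing B]

/-- The linear forms of a matrix. -/
def lin (A : Matrix (Fin (n + 1)) (Fin (n + 1)) B) (j : Fin (n + 1)) : MvPolynomial (Fin (n + 1)) B :=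
  ∑ i, C (A j i) * X i

theorem lin_isHomogeneous (A : Matrix (Fin (n + 1)) (Fin (n + 1)) B) (j : Fin (n + 1)) :
    (lin A j).IsHomogeneous 1 :=
  IsHomogeneous.sum _ _ _ fun i _ => isHomogeneous_C_mul_X _ _

theorem map_lin {B' : Type u} [CommRing B'] (f : B →+* B') (A : Matrix (Fin (n + 1)) (Fin (n + 1)) B)
    (j : Fin (n + 1)) : MvPolynomial.map f (lin A j) = lin (A.map f) j := by
  simp [lin, map_sum]

theorem eval_lin (A : Matrix (Fin (n + 1)) (Fin (n + 1)) B) (v : Fin (n + 1) → B) (j : Fin (n + 1)) :
    eval v (lin A j) = A.mulVec v j := by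
  simp [lin, map_sum, Matrix.mulVec, dotProduct]

theorem bind₁_lin_lin (P A : Matrix (Fin (n + 1)) (Fin (n + 1)) B) (j : Fin (n + 1)) :
    bind₁ (lin A) (lin P j) = lin (P * A) j := by
  simp only [lin, map_sum, map_mul, bind₁_C_right, bind₁_X_right, Finset.mul_sum, Matrix.mul_apply, Finset.sum_mul]
  rw [Finset.sum_comm]
  refine Finset.sum_congr rfl fun i _ => Finset.sum_congr rfl fun l _ => ?_
  ring

theorem lin_one (j : Fin (n + 1)) : lin (1 : Matrix (Fin (n + 1)) (Fin (n + 1)) B) j = X j := by
  classical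
  rw [lin, Finset.sum_eq_single j (fun i _ hi => by rw [Matrix.one_apply_ne' hi, map_zero, zero_mul]) (by simp),
    Matrix.one_apply_eq, map_one, one_mul]

theorem eval_bind₁ {τ : Type*} (v : τ → B) (f : Fin (n + 1) → MvPolynomial τ B) (p : MvPolynomial (Fin (n + 1)) B) :
    eval v (bind₁ f p) = eval (fun j => eval v (f j)) p :=
  eval₂Hom_bind₁ (RingHom.id B) v f p

theorem bind₁_isHomogeneous (A : Matrix (Fin (n + 1)) (Fin (n + 1)) B) {p : MvPolynomial (Fin (n + 1)) B}
    (hp : p.IsHomogeneous d) : (bind₁ (lin A) p).IsHomogeneous d := by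
  have h := hp.aeval (lin A) (n := 1) (lin_isHomogeneous A)
  rwa [one_mul] at h

theorem pderiv_bind₁_lin (A : Matrix (Fin (n + 1)) (Fin (n + 1)) B) (i : Fin (n + 1))
    (p : MvPolynomial (Fin (n + 1)) B) :
    pderiv i (bind₁ (lin A) p) = ∑ j, C (A j i) * bind₁ (lin A) (pderiv j p) := by
  classical
  induction p using MvPolynomial.induction_on with
  | C a => simp
  | add p q hp hq => simp only [map_add, hp, hq, mul_add, Finset.sum_add_distrib]
  | mul_X p l hp =>
    have hl : pderiv i (lin A l) = C (A l i) := by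
      rw [lin, map_sum, Finset.sum_eq_single i (fun b _ hb => by simp [pderiv_X_of_ne hb]) (by simp)]
      simp
    rw [map_mul, pderiv_mul, hp, bind₁_X_right, hl, Finset.sum_mul]
    have hterm : ∀ j, C (A j i) * bind₁ (lin A) (pderiv j (p * X l))
        = C (A j i) * bind₁ (lin A) (pderiv j p) * lin A l
          + (if j = l then bind₁ (lin A) p * C (A l i) else 0) := by
      intro j
      rw [pderiv_mul, map_add, map_mul, map_mul, bind₁_X_right, mul_add, mul_assoc]
      by_cases h : j = l
      · subst h; rw [if_pos rfl, pderiv_X_self, map_one]; ring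
      · rw [if_neg h, pderiv_X_of_ne (Ne.symm h), map_zero, mul_zero, mul_zero]
    simp only [hterm, Finset.sum_add_distrib, Finset.sum_ite_eq', Finset.mem_univ, if_true]

variable {k : Type u} [Field k]

/-- The base point. -/
def e0 (n : ℕ) (k : Type u) [Field k] : Fin (n + 1) → k := Pi.single 0 1

theorem e0_ne_zero : e0 n k ≠ 0 := fun h => one_ne_zero (α := k) (by
  have := congrFun h 0
  rwa [e0, Pi.single_eq_same] at this)

/-- The exponents of the monomials which are singular at the base point. -/
abbrev Lm (n d : ℕ) : Type := {e : Mon n d // e.1 0 + 2 ≤ d}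

/-- Extension by zero. -/
def ext0 (g : Lm n d → B) (e : Mon n d) : B := if h : e.1 0 + 2 ≤ d then g ⟨e, h⟩ else 0

theorem ext0_map {B' : Type u} [CommRing B'] (f : B →+* B') (g : Lm n d → B) (e : Mon n d) :
    f (ext0 g e) = ext0 (fun l => f (g l)) e := by
  rw [ext0, ext0, apply_dite f]
  simp

theorem eval_e0_monomial (m : Fin (n + 1) →₀ ℕ) (a : k) :
    eval (e0 n k) (monomial m a) = if ∀ i, i ≠ 0 → m i = 0 then a else 0 := by
  classical
  rw [eval_monomial, Finsupp.prod_fintype _ _ (fun i => pow_zero _)]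
  split_ifs with h
  · rw [Finset.prod_eq_single 0 (fun i _ hi => by rw [h i hi, pow_zero]) (by simp), e0, Pi.single_eq_same, one_pow,
      mul_one]
  · push Not at h
    obtain ⟨i, hi, hmi⟩ := h
    rw [Finset.prod_eq_zero (Finset.mem_univ i) (by rw [e0, Pi.single_eq_of_ne hi, zero_pow hmi]), mul_zero]

theorem isSing_e0 (g : Lm n d → k) :
    eval (e0 n k) (form (ext0 g)) = 0 ∧ ∀ i, eval (e0 n k) (pderiv i (form (ext0 g))) = 0 := by
  classical
  refine ⟨?_, fun j => ?_⟩
  · rw [form, map_sum]
    refine Finset.sum_eq_zero fun e _ => ?_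
    rw [eval_e0_monomial]
    split_ifs with h
    · refine dif_neg fun hl => ?_
      have hd := degree_eq e
      rw [Finsupp.degree_eq_sum, Finset.sum_eq_single 0 (fun i _ hi => h i hi) (by simp)] at hd
      omega
    · rfl
  · rw [form, map_sum, map_sum]
    refine Finset.sum_eq_zero fun e _ => ?_
    rw [pderiv_monomial, eval_e0_monomial]
    split_ifs with h
    · by_cases he : e.1 0 + 2 ≤ d
      · have hd := degree_eq e
        rw [Finsupp.degree_eq_sum, Fin.sum_univ_succ] at hd
        by_cases hj : e.1 j = 0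
        · rw [hj, Nat.cast_zero, mul_zero]
        · exfalso
          have h0 : ∀ i, i ≠ 0 → i ≠ j → e.1 i = 0 := fun i hi hij => by
            have := h i hi
            rwa [Finsupp.tsub_apply, Finsupp.single_eq_of_ne hij, tsub_zero] at this
          have h1 : ∑ i : Fin n, e.1 i.succ ≤ 1 := by
            refine Fin.cases (motive := fun j => e.1 j ≠ 0 → (∀ i, i ≠ 0 → (e.1 - Finsupp.single j 1 : Fin (n + 1) →₀ ℕ) i = 0) →
              (∀ i, i ≠ 0 → i ≠ j → e.1 i = 0) → ∑ i : Fin n, e.1 i.succ ≤ 1) (fun _ _ h0 => ?_) (fun l _ h h0 => ?_)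
              j hj h h0
            · rw [Finset.sum_eq_zero fun i _ => h0 i.succ (Fin.succ_ne_zero i) (Fin.succ_ne_zero i)]
              exact Nat.zero_le _
            · rw [Finset.sum_eq_single l (fun i _ hi => h0 i.succ (Fin.succ_ne_zero i) (by simpa using hi)) (by simp)]
              have h2 := h l.succ (Fin.succ_ne_zero l)
              rw [Finsupp.tsub_apply, Finsupp.single_eq_same] at h2
              omega
          omega
      · rw [ext0, dif_neg he, zero_mul]
    · rfl

theorem form_mem_ext0 {G : MvPolynomial (Fin (n + 1)) k} (hG : G.IsHomogeneous d)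
    (h0 : eval (e0 n k) G = 0) (h1 : ∀ i, eval (e0 n k) (pderiv i G) = 0) :
    form (ext0 fun l : Lm n d => coeff l.1.1 G) = G := by
  classical
  conv_rhs => rw [← form_coeff G hG]
  refine congrArg form (funext fun e => ?_)
  unfold ext0
  split_ifs with he
  · rfl
  · have hd := degree_eq e
    rw [Finsupp.degree_eq_sum, Fin.sum_univ_succ] at hd
    have key : ∀ m : Fin (n + 1) →₀ ℕ, m.degree = d → (∀ i, i ≠ 0 → m i = 0) → coeff m G = 0 := by
      intro m hm hm0
      rw [← form_coeff G hG, form, map_sum, Finset.sum_eq_single (mkMon m hm)] at h0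
      · rw [eval_e0_monomial, if_pos (by exact hm0)] at h0
        exact h0
      · intro b _ hb
        rw [eval_e0_monomial, if_neg]
        intro hb0
        apply hb
        refine Subtype.ext (Finsupp.ext fun i => ?_)
        by_cases hi : i = 0
        · subst hi
          have e1 := degree_eq b
          have e2 : m.degree = d := hm
          rw [Finsupp.degree_eq_sum, Finset.sum_eq_single 0 (fun i _ hi => hb0 i hi) (by simp)] at e1
          rw [Finsupp.degree_eq_sum, Finset.sum_eq_single 0 (fun i _ hi => hm0 i hi) (by simp)] at e2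
          show b.1 0 = m 0
          rw [e1, e2]
        · show b.1 i = m i
          rw [hb0 i hi, hm0 i hi]
      · simp
    by_cases hz : ∀ l : Fin n, e.1 l.succ = 0
    · exact (key e.1 (degree_eq e) fun i hi => by
        obtain ⟨l, rfl⟩ := Fin.exists_succ_eq.2 hi
        exact hz l).symm
    · push Not at hz
      obtain ⟨l, hl⟩ := hz
      have hsum : e.1 l.succ ≤ ∑ i : Fin n, e.1 i.succ := Finset.single_le_sum (f := fun i : Fin n => e.1 i.succ)
        (fun _ _ => Nat.zero_le _) (Finset.mem_univ l)
      have hl1 : e.1 l.succ = 1 := by omega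
      have hoth : ∀ i : Fin n, i ≠ l → e.1 i.succ = 0 := fun i hi => by
        have h2 := Finset.add_sum_erase (Finset.univ : Finset (Fin n)) (fun i => e.1 i.succ) (Finset.mem_univ l)
        have h3 : e.1 i.succ ≤ ∑ x ∈ Finset.univ.erase l, e.1 x.succ := Finset.single_le_sum
          (f := fun i : Fin n => e.1 i.succ) (fun _ _ => Nat.zero_le _) (by simp [hi])
        omega
      have hG1 := h1 l.succ
      rw [← form_coeff G hG, form, map_sum, map_sum, Finset.sum_eq_single e] at hG1
      · rw [pderiv_monomial, eval_e0_monomial, if_pos, hl1, Nat.cast_one, mul_one] at hG1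
        · exact hG1.symm
        · intro i hi
          obtain ⟨a, rfl⟩ := Fin.exists_succ_eq.2 hi
          rw [Finsupp.tsub_apply]
          by_cases ha : a = l
          · subst ha; rw [Finsupp.single_eq_same, hl1]
          · rw [hoth a ha, zero_tsub]
      · intro b _ hb
        rw [pderiv_monomial, eval_e0_monomial]
        split_ifs with hb0
        · by_cases hbl : b.1 l.succ = 0
          · rw [hbl, Nat.cast_zero, mul_zero]
          · exfalso
            apply hb
            refine Subtype.ext (Finsupp.ext fun i => ?_)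
            show b.1 i = e.1 i
            have hbs : ∀ a : Fin n, b.1 a.succ = e.1 a.succ := fun a => by
              have h2 := hb0 a.succ (Fin.succ_ne_zero a)
              rw [Finsupp.tsub_apply] at h2
              by_cases ha : a = l
              · subst ha
                rw [Finsupp.single_eq_same] at h2
                omega
              · rw [Finsupp.single_eq_of_ne (by simpa using ha), tsub_zero] at h2
                rw [h2, hoth a ha]
            refine Fin.cases ?_ hbs i
            have e1 := degree_eq b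
            rw [Finsupp.degree_eq_sum, Fin.sum_univ_succ, Finset.sum_congr rfl (fun a _ => hbs a)] at e1
            omega
        · rfl
      · simp

/-- The forms in the image of the parametrisation. -/
def par (A : Matrix (Fin (n + 1)) (Fin (n + 1)) B) (g : Lm n d → B) (e : Mon n d) : B :=
  coeff e.1 (bind₁ (lin A) (form (ext0 g)))

theorem form_par (A : Matrix (Fin (n + 1)) (Fin (n + 1)) B) (g : Lm n d → B) :
    form (par A g) = bind₁ (lin A) (form (ext0 g)) :=
  form_coeff _ (bind₁_isHomogeneous A (form_isHomogeneous _))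

theorem map_par {B' : Type u} [CommRing B'] (f : B →+* B') (A : Matrix (Fin (n + 1)) (Fin (n + 1)) B)
    (g : Lm n d → B) (e : Mon n d) : f (par A g e) = par (A.map f) (fun l => f (g l)) e := by
  rw [par, par, ← MvPolynomial.coeff_map, map_bind₁, map_form]
  simp only [map_lin, ext0_map]

theorem isSing_par (hd : 2 ≤ d) (A : Matrix (Fin (n + 1)) (Fin (n + 1)) k) (g : Lm n d → k) :
    IsSing (form (par A g)) := by
  rw [form_par]
  obtain ⟨v, hv0, hw⟩ : ∃ v : Fin (n + 1) → k, v ≠ 0 ∧ (eval (A.mulVec v) (form (ext0 g)) = 0 ∧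
      ∀ i, eval (A.mulVec v) (pderiv i (form (ext0 g))) = 0) := by
    by_cases hA : A.det = 0
    · obtain ⟨v, hv0, hv⟩ := Matrix.exists_mulVec_eq_zero_iff.2 hA
      have hz : ∀ {a : ℕ} (p : MvPolynomial (Fin (n + 1)) k), p.IsHomogeneous a → a ≠ 0 → eval (0 : Fin (n + 1) → k) p = 0 :=
        fun p hp ha => by rw [eval_zero]; exact hp.coeff_eq_zero (by simpa using ha.symm)
      refine ⟨v, hv0, ?_, fun i => ?_⟩ <;> rw [hv]
      · exact hz _ (form_isHomogeneous _) (by omega)
      · exact hz _ (pderiv_isHomogeneous (form_isHomogeneous _) i) (by omega)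
    · refine ⟨A⁻¹.mulVec (e0 n k), fun h => ?_, ?_⟩
      · have := congrArg A.mulVec h
        rw [Matrix.mulVec_mulVec, Matrix.mul_nonsing_inv _ (Ne.isUnit hA), Matrix.one_mulVec, Matrix.mulVec_zero] at this
        exact e0_ne_zero this
      · rw [Matrix.mulVec_mulVec, Matrix.mul_nonsing_inv _ (Ne.isUnit hA), Matrix.one_mulVec]
        exact isSing_e0 g
  refine ⟨v, hv0, ?_, fun i => ?_⟩
  · rw [eval_bind₁]
    simp only [eval_lin]
    exact hw.1
  · rw [pderiv_bind₁_lin, map_sum]
    refine Finset.sum_eq_zero fun j _ => ?_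
    rw [map_mul, eval_bind₁]
    simp only [eval_lin]
    rw [hw.2 j, mul_zero]

theorem exists_matrices (v : Fin (n + 1) → k) (hv : v ≠ 0) :
    ∃ P A : Matrix (Fin (n + 1)) (Fin (n + 1)) k, P * A = 1 ∧ P.mulVec (e0 n k) = v := by
  classical
  obtain ⟨i, hi⟩ := Function.ne_iff.1 hv
  let M : Matrix (Fin (n + 1)) (Fin (n + 1)) k := (1 : Matrix (Fin (n + 1)) (Fin (n + 1)) k).updateCol i v
  have hM : M.det ≠ 0 := by
    have h1 : M.det = Matrix.cramer (1 : Matrix (Fin (n + 1)) (Fin (n + 1)) k) v i :=
      (Matrix.cramer_apply _ _ _).symm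
    rw [h1, Matrix.cramer_one]
    exact hi
  let P := M.submatrix id (Equiv.swap i 0)
  have hP : P.det ≠ 0 := by
    rw [Matrix.det_permute']
    rcases Int.units_eq_one_or (Equiv.Perm.sign (Equiv.swap i 0)) with h | h <;> simp [h, hM]
  refine ⟨P, P⁻¹, Matrix.mul_nonsing_inv _ (Ne.isUnit hP), ?_⟩
  funext j
  simp [e0, P, M, Matrix.updateCol_self]

theorem exists_par_of_isSing (c : Mon n d → k) (h : IsSing (form c)) :
    ∃ A g, par A g = c := by
  obtain ⟨v, hv0, hv, hdv⟩ := h
  obtain ⟨P, A, hPA, hPe⟩ := exists_matrices v hv0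
  let G₀ := bind₁ (lin P) (form c)
  have hG : G₀.IsHomogeneous d := bind₁_isHomogeneous P (form_isHomogeneous c)
  have h0 : eval (e0 n k) G₀ = 0 := by
    rw [eval_bind₁]; simp only [eval_lin]; rwa [hPe]
  have h1 : ∀ i, eval (e0 n k) (pderiv i G₀) = 0 := fun i => by
    rw [pderiv_bind₁_lin, map_sum]
    refine Finset.sum_eq_zero fun j _ => ?_
    rw [map_mul, eval_bind₁]; simp only [eval_lin]; rw [hPe, hdv j, mul_zero]
  refine ⟨A, fun l => coeff l.1.1 G₀, funext fun e => ?_⟩
  rw [par, form_mem_ext0 hG h0 h1, bind₁_bind₁]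
  simp only [bind₁_lin_lin, hPA, lin_one, bind₁_X_left, AlgHom.coe_id, id_eq, coeff_form]

end Groth.Agent.DiscForm
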